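import Cfsg.Agent.McR.Code

/-! The involution `a` swapping `z` and `u`, and its action on `C_H(u)`. -/

set_option autoImplicit false
set_option maxRecDepth 100000
set_option exponentiation.threshold 100000
set_option synthInstance.maxSize 2048
set_option linter.unusedSectionVars false

namespace Cfsg.Agent.McR

open Cfsg.Agent.Comp Cfsg.Agent.Known Cfsg.Agent.BG Cfsg.Agent.Rec Cfsg.Agent.Spor

variable {G : Type*} [Group G] {y : ℕ → G} {g k a : G}

def Mp (y : ℕ → G) (g : G) (p q : ℕ) : Prop := p < 384 ∧ q < 384 ∧ g * ff y p * g⁻¹ = ff y q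

theorem Mp.mul (h : St y) {p q p' q' : ℕ} (a : Mp y g p q) (b : Mp y g p' q') : Mp y g (mul p p') (mul q q') :=
  ⟨mul_lt a.1 b.1, mul_lt a.2.1 b.2.1, by rw [h.mul a.1 b.1, h.mul a.2.1 b.2.1, ← a.2.2, ← b.2.2]; group⟩

theorem Mp.cc (h : St y) {p q p' q' : ℕ} (a : Mp y g p q) (b : Mp y g p' q') : Mp y g (cc p p') (cc q q') :=
  ⟨cc_lt a.1 b.1, cc_lt a.2.1 b.2.1, by rw [h.cc a.1 b.1, h.cc a.2.1 b.2.1, ← a.2.2, ← b.2.2]; group⟩

theorem Mp.eq (h : St y) {p q p' q' : ℕ} (a : Mp y g p q) (b : Mp y g p' q') (e : p = p') : q = q' :=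
  h.inj a.2.1 b.2.1 (by rw [← a.2.2, ← b.2.2, e])

theorem Mp.zero : Mp y g 0 0 := ⟨by decide, by decide, by simp [ff_zero]⟩

theorem Mp.cast {p q p' q' : ℕ} (a : Mp y g p q) (e : p = p') (e' : q = q') : Mp y g p' q' := e ▸ e' ▸ a

theorem Mp.comp {p q r : ℕ} (a : Mp y g q r) (b : Mp y k p q) : Mp y (g * k) p r :=
  ⟨b.1, a.2.1, by rw [← a.2.2, ← b.2.2]; group⟩

theorem St.mp (h : St y) {c p : ℕ} (hc : c < 384) (hp : p < 384) : Mp y (ff y c) p (McR.cc c p) := ⟨hp, cc_lt hc hp, (h.cc hc hp).symm⟩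

theorem Mp.comm {p : ℕ} (a : Mp y g p p) : Commute g (ff y p) := mul_inv_eq_iff_eq_mul.1 a.2.2

def al (n : ℕ) : ℕ := Comp.get 8 255 (nat_lit 0xe61aaa16898ab4c4ab017669a4567b664964434b9bda96a3e5472494b94bc488c60577324b390ba97ae6da24e5a70995665519f337f69858687881e3d3a23788a4d75797a7b7c802e597d2a9ca530913863955843a889bbb1b48eaf6e08be9e4f252f1c3f92766c9d8f20a628478d3c5f937eb8a3b7a4a05205b2ad6b351f2c5ba783503682166f193b42ac8b0331715d771d4026740d53102b5e9b8102215541842d5c1814371bb539151a0a0f0b2712bf290c111307620904460632220100) n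
def be (n : ℕ) : ℕ := Comp.get 8 255 (nat_lit 0x88abd8667a2bc333894177396586887729a564bbaaaa9605730646334b0ab39926a3e6618b7a5b9bea6709836696d9544433b894c315a91a1b6af2b5f5319a061379b7d8082847a55357920a79054854a49994565ad9fb1bbb8bf885d0e97ac62323f462f8c3c5b8ba32aae161593763d8d77b48fb3b2784003a4a883595c216c9c6b424e7b28712351509e9d057f6f6e7e5e521b81113a071e1d7574012c2e2d7c411f24294d26b54847272209121a0b8e14130d0c104f0f061c04250a0200) n

theorem ext_D (h : St y) {t : ℕ → ℕ} (ht : t = al ∨ t = be) (h1 : Mp y g 6 (t 6)) (h2 : Mp y g 1 (t 1)) (h3 : Mp y g 2 (t 2))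
    {n : ℕ} (hn : n < 192) : Mp y g n (t n) := by
  have : ∀ n < 192, n = 0 ∨ Comp.get 8 255 (nat_lit 0xb2b2a296b88ab3b35d82bf8370a6a37fa0858d9b9ab9beac628971884f31804777759c8c4d6338a5a48c2f9999507d5ba5a4594e81587e7c7b7a7932623925152c24197e529b5e7d5c512d823856553b5352302f3c564d34333433484746454c4b2341186f3732300e082b2a28481e1d1c1b1a191816151413266457605e5e5c5c56665a2b2a292827262524232221201f1b371605031211100b0a09070f532b7e2a7d2e1211100f080d0c090702010604031227111406050400010602000000) n < 192 ∧ Comp.get 3 7 (nat_lit 0x45238ac8ed8e291292cb6d9648adb247159627628924e5b65b2cb1db144a25248a5b124ed8ec96d92d924924925b6c515b62492492493b6d92c925b6db624944edb24b6d89396288) n ∈ [6, 1, 2] ∧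
      Comp.get 4 15 (nat_lit 0x888788778698678778868897766777767776575786766757787577567776756664456665666655555667755565656675657565664444455664445564556566666566444445645565645533333453445454553334445342223334342331222110) (Comp.get 8 255 (nat_lit 0xb2b2a296b88ab3b35d82bf8370a6a37fa0858d9b9ab9beac628971884f31804777759c8c4d6338a5a48c2f9999507d5ba5a4594e81587e7c7b7a7932623925152c24197e529b5e7d5c512d823856553b5352302f3c564d34333433484746454c4b2341186f3732300e082b2a28481e1d1c1b1a191816151413266457605e5e5c5c56665a2b2a292827262524232221201f1b371605031211100b0a09070f532b7e2a7d2e1211100f080d0c090702010604031227111406050400010602000000) n) < Comp.get 4 15 (nat_lit 0x888788778698678778868897766777767776575786766757787577567776756664456665666655555667755565656675657565664444455664445564556566666566444445645565645533333453445454553334445342223334342331222110) n ∧ n = mul (Comp.get 8 255 (nat_lit 0xb2b2a296b88ab3b35d82bf8370a6a37fa0858d9b9ab9beac628971884f31804777759c8c4d6338a5a48c2f9999507d5ba5a4594e81587e7c7b7a7932623925152c24197e529b5e7d5c512d823856553b5352302f3c564d34333433484746454c4b2341186f3732300e082b2a28481e1d1c1b1a191816151413266457605e5e5c5c56665a2b2a292827262524232221201f1b371605031211100b0a09070f532b7e2a7d2e1211100f080d0c090702010604031227111406050400010602000000)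 n) (Comp.get 3 7 (nat_lit 0x45238ac8ed8e291292cb6d9648adb247159627628924e5b65b2cb1db144a25248a5b124ed8ec96d92d924924925b6c515b62492492493b6d92c925b6db624944edb24b6d89396288) n) ∧
      al n = mul (al (Comp.get 8 255 (nat_lit 0xb2b2a296b88ab3b35d82bf8370a6a37fa0858d9b9ab9beac628971884f31804777759c8c4d6338a5a48c2f9999507d5ba5a4594e81587e7c7b7a7932623925152c24197e529b5e7d5c512d823856553b5352302f3c564d34333433484746454c4b2341186f3732300e082b2a28481e1d1c1b1a191816151413266457605e5e5c5c56665a2b2a292827262524232221201f1b371605031211100b0a09070f532b7e2a7d2e1211100f080d0c090702010604031227111406050400010602000000) n)) (al (Comp.get 3 7 (nat_lit 0x45238ac8ed8e291292cb6d9648adb247159627628924e5b65b2cb1db144a25248a5b124ed8ec96d92d924924925b6c515b62492492493b6d92c925b6db624944edb24b6d89396288) n)) ∧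
      be n = mul (be (Comp.get 8 255 (nat_lit 0xb2b2a296b88ab3b35d82bf8370a6a37fa0858d9b9ab9beac628971884f31804777759c8c4d6338a5a48c2f9999507d5ba5a4594e81587e7c7b7a7932623925152c24197e529b5e7d5c512d823856553b5352302f3c564d34333433484746454c4b2341186f3732300e082b2a28481e1d1c1b1a191816151413266457605e5e5c5c56665a2b2a292827262524232221201f1b371605031211100b0a09070f532b7e2a7d2e1211100f080d0c090702010604031227111406050400010602000000) n)) (be (Comp.get 3 7 (nat_lit 0x45238ac8ed8e291292cb6d9648adb247159627628924e5b65b2cb1db144a25248a5b124ed8ec96d92d924924925b6c515b62492492493b6d92c925b6db624944edb24b6d89396288) n)) := by decide +kernel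
  generalize Comp.get 8 255 (nat_lit 0xb2b2a296b88ab3b35d82bf8370a6a37fa0858d9b9ab9beac628971884f31804777759c8c4d6338a5a48c2f9999507d5ba5a4594e81587e7c7b7a7932623925152c24197e529b5e7d5c512d823856553b5352302f3c564d34333433484746454c4b2341186f3732300e082b2a28481e1d1c1b1a191816151413266457605e5e5c5c56665a2b2a292827262524232221201f1b371605031211100b0a09070f532b7e2a7d2e1211100f080d0c090702010604031227111406050400010602000000) = P, Comp.get 3 7 (nat_lit 0x45238ac8ed8e291292cb6d9648adb247159627628924e5b65b2cb1db144a25248a5b124ed8ec96d92d924924925b6c515b62492492493b6d92c925b6db624944edb24b6d89396288) = L, Comp.get 4 15 (nat_lit 0x888788778698678778868897766777767776575786766757787577567776756664456665666655555667755565656675657565664444455664445564556566666566444445645565645533333453445454553334445342223334342331222110) = D at this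
  induction hd : D n using Nat.strong_induction_on generalizing n with
  | _ d ih =>
  rcases this n hn with rfl | ⟨a1, a2, a3, a4, a5, a6⟩
  · exact Mp.zero.cast rfl (by rcases ht with rfl | rfl <;> decide +kernel)
  · have b1 : Mp y g (L n) (t (L n)) := by
      simp only [List.mem_cons, List.not_mem_nil, or_false] at a2
      rcases a2 with e | e | e <;> rwa [e]
    exact ((ih _ (hd ▸ a3) a1 rfl).mul h b1).cast a4.symm (by rcases ht with rfl | rfl; exacts [a5.symm, a6.symm])

variable [Finite G]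

theorem St.cls' (h : St y) {x : G} (hx : Commute x (ff y 23)) (h2 : orderOf x = 2) (h3 : x ≠ ff y 23) :
    ∃ k, Commute k (ff y 23) ∧ k * x * k⁻¹ = ff y 181 := by
  obtain ⟨m, hm, e | ⟨k, hk, e⟩⟩ := h.cls h.T_le_C (Subgroup.mem_centralizer_singleton_iff.2 hx.eq) h2 <;>
    have hm : Commute m (ff y 23) := Subgroup.mem_centralizer_singleton_iff.1 hm
  · exact absurd (by rw [← mul_inv_eq_iff_eq_mul.2 hm.eq, mul_left_inj, mul_right_inj] at e; exact e) h3
  · exact ⟨k * m, hk.mul_left hm, (by group : _ = _).trans e⟩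

theorem St.swap (h : St y) (hn : ¬ IsIsolatedInvolution (ff y 23)) : ∃ g, Mp y g 23 181 ∧ Mp y g 181 23 := by
  obtain ⟨g, h1, h2⟩ : ∃ g, Commute (ff y 23) (g * ff y 23 * g⁻¹) ∧ g * ff y 23 * g⁻¹ ≠ ff y 23 := by
    by_contra! H; exact hn ⟨h.ord_z, H⟩
  obtain ⟨k, -, e⟩ := h.cls' h1.symm ((BG.orderOf_conj' ..).trans h.ord_z) h2
  have e : k * g * ff y 23 * (k * g)⁻¹ = ff y 181 := (by group : _ = _).trans e
  generalize k * g = b at e
  obtain ⟨k, hk, e1⟩ := h.cls' (x := b⁻¹ * ff y 23 * b⁻¹⁻¹) (by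
    simpa [← e, mul_assoc] using (h.comm_z (a := 181) (by decide)).symm.conj b⁻¹) ((BG.orderOf_conj' ..).trans h.ord_z) fun e1 => by
      rw [← e1, inv_inv] at e
      exact absurd (h.inj (by decide) (by decide) ((by group : _ = _).trans e)) (show 23 ≠ 181 by decide)
  refine ⟨b * k⁻¹, ⟨by decide, by decide, ?_⟩, by decide, by decide, by rw [← e1]; group⟩
  rw [← e, mul_assoc b, hk.inv_left.eq]; group

theorem Mp.push (h : St y) (e1 : Mp y g 23 181) (e2 : Mp y g 181 23) {n : ℕ} (hn : n < 192) : ∃ q < 192, Mp y g n q := by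
  have hn' : n < 384 := by omega
  have c : Commute (ff y n) (ff y 181) := (h.cm hn' (by decide)).1 (by clear hn'; revert n; decide +kernel)
  obtain ⟨q, hq, e⟩ := h.surj (e2.2.2 ▸ c.conj g) (e1.2.2 ▸ (h.comm_z hn').conj g)
  exact ⟨q, hq, hn', by omega, e⟩

/-- the involution `a` -/
structure A0 (y : ℕ → G) (a : G) : Prop where
  sq : a * a = 1
  act : ∀ n < 192, Mp y a n (al n)

theorem St.exists_a (h : St y) (hn : ¬ IsIsolatedInvolution (ff y 23)) : ∃ a, A0 y a := by
  obtain ⟨g, e1, e2⟩ := h.swap hn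
  obtain ⟨r, hr, e3⟩ := e1.push h e2 (n := 6) (by decide)
  obtain ⟨d, hd, e4⟩ := (show ∀ r < 192, McR.mul r (McR.mul r r) = 0 → r ≠ 0 → ∃ d < 192, McR.cc d r = 6 ∨ McR.cc d r = 4 by
    decide +kernel) r hr ((e3.mul h (e3.mul h e3)).eq h Mp.zero (by decide +kernel)) fun e => by
      have := e3.2.2
      rw [e, ff_zero, conj_eq_one_iff, h.eq_one (by decide)] at this
      omega
  have hd' : d < 384 := by omega
  have hD : ∀ d < 192, McR.cc d 23 = 23 ∧ McR.cc d 181 = 181 := by decide +kernel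
  have b1 := ((h.mp hd' (by decide)).cast rfl (hD d hd).2).comp e1
  have b2 := ((h.mp hd' (by decide)).cast rfl (hD d hd).1).comp e2
  have b3 := (h.mp hd' (by omega)).comp e3
  generalize ff y d * g = k, McR.cc d r = s at b1 b2 b3 e4
  have b4 := b3.mul h b3
  have key : ∀ x < 192, McR.mul x x = 0 → McR.mul x (McR.mul (McR.cc 6 x) (McR.cc (McR.mul 6 6) x)) = 0 → x ≠ 0 →
      ∃ q ∈ [1, 2, 10, 12, 19, 34], Mp y k x q := fun x hx c1 c2 c3 => by
    obtain ⟨q, hq, e⟩ := b1.push h b2 hx
    refine ⟨q, (show ∀ s ∈ [6, 4], ∀ q < 192, McR.mul q q = 0 → McR.mul q (McR.mul (McR.cc s q) (McR.cc (McR.mul s s) q)) = 0 → q ≠ 0 →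
      q ∈ [1, 2, 10, 12, 19, 34] by decide +kernel) s (by simpa using e4) q hq ((e.mul h e).eq h Mp.zero c1)
      ((e.mul h ((b3.cc h e).mul h (b4.cc h e))).eq h Mp.zero c2) fun e' => c3 ?_, e⟩
    have := e.2.2
    rwa [e', ff_zero, conj_eq_one_iff, h.eq_one e.1] at this
  obtain ⟨p, hp, c1⟩ := key 1 (by decide) (by decide +kernel) (by decide +kernel) (by decide)
  obtain ⟨q, hq, c2⟩ := key 2 (by decide) (by decide +kernel) (by decide +kernel) (by decide)
  obtain ⟨c, hc, e5⟩ := (show ∀ s ∈ [6, 4], ∀ p ∈ [1, 2, 10, 12, 19, 34], ∀ q ∈ [1, 2, 10, 12, 19, 34],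
    McR.mul (McR.mul p q) (McR.mul p q) = 181 → McR.mul (McR.mul p (McR.cc s q)) (McR.mul p (McR.cc s q)) = McR.mul 181 23 →
    ∃ c < 7, (McR.cc c s = al 6 ∧ McR.cc c p = al 1 ∧ McR.cc c q = al 2) ∨ (McR.cc c s = be 6 ∧ McR.cc c p = be 1 ∧ McR.cc c q = be 2) by
      decide +kernel) s (by simpa using e4) p hp q hq (((c1.mul h c2).mul h (c1.mul h c2)).eq h b1 (by decide +kernel))
      (((c1.mul h (b3.cc h c2)).mul h (c1.mul h (b3.cc h c2))).eq h (b1.mul h b2) (by decide +kernel))
  have hc' : c < 384 := by omega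
  have d1 := (h.mp hc' b3.2.1).comp b3
  have d2 := (h.mp hc' c1.2.1).comp c1
  have d3 := (h.mp hc' c2.2.1).comp c2
  generalize ff y c * k = b at d1 d2 d3
  rcases e5 with ⟨f1, f2, f3⟩ | ⟨f1, f2, f3⟩ <;> rw [f1] at d1 <;> rw [f2] at d2 <;> rw [f3] at d3
  · have A := fun n hn => ext_D h (.inl rfl) d1 d2 d3 (n := n) hn
    have A2 : ∀ n < 192, Mp y (b * b) n n := fun n hn => by
      have : al n < 192 ∧ al (al n) = n := by revert n; decide +kernel
      exact ((A _ this.1).comp (A n hn)).cast rfl this.2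
    obtain ⟨n, hn, e⟩ := h.surj (A2 23 (by decide)).comm (A2 181 (by decide)).comm
    have hn' : n < 384 := by omega
    rcases (show ∀ n < 192, McR.mul n 6 = McR.mul 6 n → McR.mul n 1 = McR.mul 1 n → McR.mul n 2 = McR.mul 2 n → al n = n →
      n = 0 ∨ n = 169 by decide +kernel) n hn ((h.cm hn' (by decide)).2 (e ▸ (A2 6 (by decide)).comm))
      ((h.cm hn' (by decide)).2 (e ▸ (A2 1 (by decide)).comm)) ((h.cm hn' (by decide)).2 (e ▸ (A2 2 (by decide)).comm))
      ((A n hn).eq h ⟨hn', hn', by rw [← e]; group⟩ rfl) with rfl | rfl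
    · exact ⟨b, e, A⟩
    · refine ⟨b * ff y 23, ?_, fun n hn => (A n hn).comp ⟨by omega, by omega, mul_inv_eq_iff_eq_mul.2 (h.comm_z (by omega)).symm.eq⟩⟩
      have : b * ff y 23 * b⁻¹ = ff y 181 := (A 23 (by decide)).2.2
      calc _ = b * ff y 23 * b⁻¹ * (b * b) * ff y 23 := by group
        _ = 1 := by rw [this, e, h.m (c := 23), h.zz]
  · have A : ∀ n < 192, Mp y (b * ff y 192) n (be (McR.cc 192 n)) := fun n hn =>
      (ext_D h (.inr rfl) d1 d2 d3 (by revert n; decide +kernel)).comp (h.mp (by decide) (by omega))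
    have A3 : ∀ n ∈ [23, 181, 1], Mp y (b * ff y 192 * (b * ff y 192 * (b * ff y 192))) n
        (be (McR.cc 192 (be (McR.cc 192 (be (McR.cc 192 n)))))) := fun n hn =>
      (A _ (by revert n; decide +kernel)).comp ((A _ (by revert n; decide +kernel)).comp (A n (by revert n; decide)))
    obtain ⟨n, hn, e⟩ := h.surj ((A3 23 (by simp)).cast rfl (by decide +kernel)).comm ((A3 181 (by simp)).cast rfl (by decide +kernel)).comm
    exact absurd ((e ▸ A3 1 (by simp)).eq h (h.mp (by omega) (by decide)) rfl) (by clear e; revert n; decide +kernel)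

end Cfsg.Agent.McR
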