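import Cfsg.Agent.McR.Loc
import Cfsg.Agent.Spor.J.McR
import Cfsg.Agent.Known.McLEq
import Cfsg.Agent.S2903

/-! Recognition of `McL`: the presentation, generation, and the isomorphism. -/

set_option autoImplicit false
set_option maxRecDepth 100000
set_option exponentiation.threshold 100000
set_option synthInstance.maxSize 2048
set_option linter.unusedSectionVars false

namespace Cfsg.Agent.McR

open Cfsg.Agent.Comp Cfsg.Agent.Known Cfsg.Agent.BG Cfsg.Agent.Rec Cfsg.Agent.Spor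

variable {G G' : Type*} [Group G] [Group G'] {y : ℕ → G} {y' : ℕ → G'} {a : G} {a' : G'}

def gg (y : ℕ → G) (a : G) (l : ℕ) : G := if l = 6 then a else y l
noncomputable def lt (l n : ℕ) : ℕ := force n fun n => if n < 192 then if l = 6 then al n else if l = 5 then Comp.get 9 511 (nat_lit 0x27ffffffffffffffffffffcffffffffffffffffffffffffffcd7ffffffffffffffffffffffffffffffffffffff457ffffffffffffffffffffffffffa5fffffffffffffffffffffff5afffffffffffffffffffffffffffffffffffffffffff54fffffffffffffffffffffffff2fffffffffffffffffffffffffffffffffff5ffffffffffffffffffffffffff057ffffffffffffffffffffffffffffffffffffffffffffffffffffffffffffffffffffffffffffffffffffffffffffffff0bfffffff09fffffffff807ffffff90ffffffffffffffffffc1c00) n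
  else if l = 3 then Comp.get 9 511 (nat_lit 0xff8c7fffffffffffffffffcc3ffffffffffffffffffffffffcc5ffffffffffffffffffffffffffffffffffffffffffffffffffffffffffa0fffffffffffffffffffffff477ffffffffffffffffffffffffffffffffffffffffffffffffffffffffffffffffccbffffaa56bffffffffffffffffffffffffffffffffffffffffffffffffffffffffffffffffffffffffffffffc19ffffffffffffffffffffffffd7dfffffffffffffffffffffffffffffff88bffffffffffffffffffffff0bffffffffffffffffffffffe3dffffffe02fffffffffff823fe00) n else if l < 5 then cc (gc l) n else 511 else 511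
noncomputable def ap (w : List ℕ) : ℕ → ℕ := List.rec (fun n => n) (fun l _ ih n => ih (lt l n)) w
noncomputable def evc (w : List ℕ) : ℕ := List.rec 0 (fun l _ ih => mul ih (gc l)) w

theorem ev_gg {w : List ℕ} (hw : 6 ∉ w) : ev (gg y a) w = W y w.reverse := by
  induction w with
  | nil => rfl
  | cons l w ih =>
    rw [List.mem_cons, not_or] at hw
    simp [ih hw.2, gg, Ne.symm hw.1]

theorem evc_spec (h : St y) {w : List ℕ} (hw : ∀ l ∈ w, l ∈ [0, 1, 2, 4]) : evc w < 384 ∧ ev (gg y a) w = ff y (evc w) := by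
  induction w with
  | nil => exact ⟨by decide, rfl⟩
  | cons l w ih =>
    have h1 := ih fun x hx => hw x (List.mem_cons_of_mem _ hx)
    have h2 := hw l List.mem_cons_self
    exact ⟨mul_lt h1.1 (gc_lt l h2).1, by
      rw [ev_cons, h1.2, gg, if_neg (by rintro rfl; simp at h2), ← ff_gc (y := y) h2, ← h.mul h1.1 (gc_lt l h2).1]; rfl⟩

theorem A0.lt (h : St y) (H : A0 y a) {l n : ℕ} (e : lt l n < 384) : Mp y (gg y a l) n (lt l n) := by
  have h1 : n < 192 ∧ l < 7 := by
    rw [McR.lt, force_eq] at e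
    split_ifs at e <;> omega
  by_cases h2 : l = 6
  · simpa [McR.lt, h2, h1.1, gg] using H.act n h1.1
  · refine ⟨by omega, e, mul_inv_eq_iff_eq_mul.2 ?_⟩
    simpa [gg, h2, ff] using (h.eq _ _).2 ((show ∀ l < 6, ∀ n < 192, McR.lt l n < 384 →
      eqB McR.act BB (l :: wd n) (wd (McR.lt l n) ++ [l]) = true by decide +kernel) l (by omega) n h1.1 e)

theorem A0.ap (h : St y) (H : A0 y a) {w : List ℕ} {n : ℕ} (e : ap w n < 384) : Mp y (ev (gg y a) w) n (ap w n) := by
  induction w generalizing n with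
  | nil => exact ⟨e, e, by simp [McR.ap]⟩
  | cons l w ih => exact (ih e).comp (H.lt h (ih e).1)

theorem A0.rels [Finite G] (h : St y) (H : A0 y a) : ∀ r ∈ JMcR.rels, ev (gg y a) r = 1 := fun r hr => by
  rcases (show ∀ r ∈ JMcR.rels, (6 ∉ r ∧ eqB McR.act BB r.reverse [] = true) ∨
    (∃ u ∈ [[], [0], [2], [4, 1], [1, 0, 1], [1, 2, 1]], ∃ v ∈ [[], [0], [1, 2, 1, 2], [4, 1], [0, 1, 0, 1], [1, 2, 1]],
      r = v ++ 6 :: (u ++ [6]) ∧ (∀ l ∈ u, l ∈ [0, 1, 2, 4]) ∧ (∀ l ∈ v, l ∈ [0, 1, 2, 4]) ∧ evc u < 192 ∧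
      mul (al (evc u)) (evc v) = 0) ∨ McR.ap r 23 = 23 ∧ McR.ap r 181 = 181 ∧ ∃ j ∈ [2, 3, 4, 5], r ++ r.take j = r.take j ++ r ∧
      ∃ L ∈ [[1, 2, 6], [1, 10, 19], [2, 12, 34]], (∀ g ∈ L, g < 384 ∧ McR.ap r g = g) ∧ ∀ n < 192, n = 0 ∨ (∃ g ∈ L, mul n g ≠ mul g n) ∨
      McR.ap (r.take j) n < 384 ∧ McR.ap (r.take j) n ≠ n by decide +kernel) r hr with
    ⟨h1, h2⟩ | ⟨u, -, v, -, rfl, hu, hv, h1, h2⟩ | ⟨h1, h2, j, -, h3, L, -, h4, h5⟩
  · rw [ev_gg h1]; exact (h.eq _ []).2 h2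
  · have := (H.act _ h1).2.2
    rw [inv_eq_of_mul_eq_one_right H.sq] at this
    rw [ev_append, ev_cons, ev_append, (evc_spec h hu).2, (evc_spec h hv).2]
    simp only [ev_cons, ev_nil, one_mul, gg, if_true]
    rw [this, ← h.mul (H.act _ h1).2.1 (evc_spec (a := a) h hv).1, h2, ff_zero]
  · have k : ∀ {g}, g < 384 → McR.ap r g = g → Commute (ev (gg y a) r) (ff y g) := fun hg e =>
      ((H.ap h (e.symm ▸ hg)).cast rfl e).comm
    obtain ⟨n, hn, e⟩ := h.surj (k (by decide) h1) (k (by decide) h2)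
    rcases h5 n hn with rfl | ⟨g, hg, h6⟩ | ⟨h6, h7⟩
    · exact e
    · exact absurd ((h.cm (by omega) (h4 g hg).1).2 (e ▸ k (h4 g hg).1 (h4 g hg).2)) h6
    · refine absurd ((H.ap h h6).eq h ⟨by omega, by omega, mul_inv_eq_iff_eq_mul.2 ?_⟩ rfl) h7
      rw [← e, ← ev_append, ← ev_append, h3]

theorem A0.cls [Finite G] (h : St y) (H : A0 y a) {M : Subgroup G} (hC : C1[ff y 23] ≤ M) (ha : a ∈ M) {x : G} (hx : x ∈ M)
    (h2 : orderOf x = 2) : ∃ m ∈ M, m * x * m⁻¹ = ff y 23 := by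
  obtain ⟨m, hm, e | ⟨k, hk, e⟩⟩ := h.cls (h.T_le_C.trans hC) hx h2
  · exact ⟨m, hm, e⟩
  · exact ⟨a * k * m, mul_mem (mul_mem ha (hC (Subgroup.mem_centralizer_singleton_iff.2 hk.eq))) hm,
      (by group : _ = a * (k * (m * x * m⁻¹) * k⁻¹) * a⁻¹).trans (by rw [e, (H.act 181 (by decide)).2.2]; rfl)⟩

theorem A0.top [Finite G] (h : St y) (H : A0 y a) : genL (gg y a) (List.range 7) = ⊤ := by
  have hC : C1[ff y 23] ≤ genL (gg y a) (List.range 7) := h.gen'.ge.trans (genL_le fun l hl => by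
    rw [List.mem_range] at hl
    have := mem_genL (gg y a) (List.mem_range.2 (hl.trans (by decide : 6 < 7)))
    rwa [gg, if_neg (by omega)] at this)
  have ha : a ∈ genL (gg y a) (List.range 7) := mem_genL (gg y a) (x := 6) (by decide)
  generalize genL (gg y a) (List.range 7) = M at hC ha
  by_contra hne
  have : Group.IsSolvable M := S2903.result (SE.rank2_iff.1 ⟨ff y 23, trivial, ff y 181, trivial, h.ord_z, orderOf_eq_prime (by rw [_root_.sq, h.uu])
    fun e => absurd ((h.eq_one (by decide)).1 e) (by decide), fun e => absurd (h.inj (by decide) (by decide) e) (by decide),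
    (h.comm_z (by decide)).symm⟩) M (Invol.spe_two_iff.2 (Invol.stronglyEmbedded_iff.2 ⟨hne,
    ⟨_, hC (Subgroup.mem_centralizer_singleton_iff.2 rfl), h.ord_z⟩, fun t ht h2 g hg => by
      obtain ⟨m, hm, e⟩ := H.cls h hC ha ht h2
      obtain ⟨k, hk, e'⟩ := H.cls h hC ha hg ((BG.orderOf_conj' ..).trans h2)
      have : k * g * m⁻¹ ∈ M := hC (Subgroup.mem_centralizer_singleton_iff.2 (mul_inv_eq_iff_eq_mul.1 (by
        nth_rw 1 [← e]; rw [← e']; group)))
      rwa [M.mul_mem_cancel_right (inv_mem hm), M.mul_mem_cancel_left hk] at this⟩))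
  exact h.ns (ff_z (y := y) ▸ Group.isSolvable_of_isSolvable_injective (Subgroup.inclusion_injective hC))

theorem card_pair [Finite G] [Finite G'] (h : St y) (H : A0 y a) (h' : St y') (H' : A0 y' a') :
    #(genL (fun l => (gg y' a' l, gg y a l)) (List.range 7)) ≤ 898128000 := by
  let K : Subgroup (G' × G) :=
    { carrier := {x | ∃ w, (∀ l ∈ w, l < 6) ∧ x = (W y' w, W y w)}
      one_mem' := ⟨[], by simp, rfl⟩
      mul_mem' := by
        rintro _ _ ⟨u, hu, rfl⟩ ⟨v, hv, rfl⟩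
        exact ⟨u ++ v, fun l hl => (List.mem_append.1 hl).elim (hu l) (hv l), by simp⟩
      inv_mem' := by
        rintro _ ⟨u, hu, rfl⟩
        exact ⟨u.reverse, fun l hl => hu l (List.mem_reverse.1 hl), by rw [h.W_rev hu, h'.W_rev hu]; rfl⟩ }
  have h2 : CardLe K 40320 := ⟨inferInstance, (Nat.card_le_card_of_injective (fun x : K => (⟨x.1.2, by
    obtain ⟨_, w, hw, rfl⟩ := x
    exact Subgroup.mem_centralizer_singleton_iff.2 (h.W_comm hw).eq⟩ : C1[ff y 23])) (by
      rintro ⟨_, u, hu, rfl⟩ ⟨_, v, hv, rfl⟩ e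
      have e : W y u = W y v := congrArg Subtype.val e
      exact Subtype.ext (Prod.ext ((h'.eq u v).2 ((h.eq u v).1 e)) e))).trans (ff_z (y := y) ▸ h.card.le)⟩
  have h3 : eqB McR.act BB [255] [] = true := by decide +kernel
  refine (h2.of_relIndex (JMcR.relIndex_le (Prod.ext (by simpa [gg] using (h'.eq _ _).2 h3) (by simpa [gg] using (h.eq _ _).2 h3))
    (fun r hr => Prod.ext ((map_ev (MonoidHom.fst G' G) _ r).trans (H'.rels h' r hr))
      ((map_ev (MonoidHom.snd G' G) _ r).trans (H.rels h r hr))) fun w hw => ?_)).2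
  obtain ⟨l, hl, rfl⟩ := (show ∀ w ∈ JMcR.subs, ∃ l < 6, w = [l] by decide) w hw
  exact ⟨[l], by simpa using hl, by simp [gg, hl.ne]⟩

theorem simple0 : IsSimpleGroup McLP.G := by
  obtain ⟨f⟩ := McLT.equiv
  have : IsSimpleGroup (Leech.St2 Leech.vv Leech.uu) := Leech.simple_McL
  exact (Leech.equivMcL.trans f).symm.isSimpleGroup

theorem fin0 : Finite McLP.G := Nat.finite_of_card_ne_zero (by rw [McLP.card]; decide)

theorem st0 : ∃ y : ℕ → McLP.G, ∃ a, St y ∧ A0 y a ∧ IsNonsplitDoubleCover C1[ff y 23] (alternatingGroup (Fin 8)) := by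
  obtain ⟨y, h, e⟩ := exists_st car0 cent0
  have := simple0
  have := fin0
  obtain ⟨a, H⟩ := h.exists_a fun hi => by
    have h1 := h.card
    rw [← ff_z, Subgroup.centralizer_eq_top_iff_subset.2 (Set.singleton_subset_iff.2 (Block.zstar_center hi
      (SE.oddCore_simple (by rw [McLP.card]; decide)))), Subgroup.card_top, McLP.card] at h1
    omega
  exact ⟨y, a, h, H, by rw [ff_z, e, ← cent0]; exact car0.cover⟩

theorem St.iso [Finite G] (h : St y) (hn : ¬ IsIsolatedInvolution (ff y 23)) : Nonempty (G ≃* McLP.G) := by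
  obtain ⟨a, H⟩ := h.exists_a hn
  obtain ⟨y', a', h', H', -⟩ := st0
  have := simple0
  have := fin0
  have : Nontrivial G := ⟨_, _, h.z_ne⟩
  exact iso_of_pair (H.top h) (H'.top h') (McLP.card ▸ card_pair h H h' H')

end Cfsg.Agent.McR
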